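import Cfsg.Agent.Lib.LocalEven.Transfer3.Group
import Cfsg.Agent.Lib.LocalEvenB.PushFam.Cases
import Cfsg.Agent.Lib.Techniques.Sections

/-!
# The functors `Ω₁(Z(·))` and `W(J̃(·))`
-/

set_option autoImplicit false
set_option linter.all false

namespace CfsgLib.Transfer3

open Subgroup Cfsg CfsgLib.PushFam

universe u

/-- `Q ↦ Ω₁(Z(Q))` -/
def zFun (p : ℕ) : ∀ (Q : Type u) [Group Q], Subgroup Q := fun Q _ => omegaOne p (Subgroup.center Q)

/-- `Q ↦ W(J̃(Q))` -/
def jFun (W : ∀ (Q : Type u) [Group Q], Subgroup Q) : ∀ (Q : Type u) [Group Q], Subgroup Q :=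
  fun Q _ => inducedFunctor (G := Q) W (jt Q)

theorem map_jt {Q R : Type u} [Group Q] [Group R] (φ : Q ≃* R) : (jt Q).map φ.toMonoidHom = jt R := by
  have e : (jt R).map (MonoidHom.id R) =
      (MonoidHom.id R).range ⊓ centralizer (centerThompsonAOf (MonoidHom.id R).range : Set R) :=
    map_jt_range (τ := MonoidHom.id R) Function.injective_id
  rw [Subgroup.map_id, MonoidHom.range_eq_top.2 (Function.surjective_id : Function.Surjective (MonoidHom.id R))] at e
  rw [map_jt_range (τ := φ.toMonoidHom) φ.injective, MonoidHom.range_eq_top.2 φ.surjective, e]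

theorem jtOf_eq {G : Type u} [Group G] (T : Subgroup G) : (jt ↥T).map T.subtype = jtOf T := by
  rw [map_jt_range (τ := T.subtype) T.subtype_injective, T.range_subtype]
  rfl

variable {p : ℕ} [Fact p.Prime]

theorem zFun_isCharPFunctor : IsCharPFunctor.{u} p (zFun p) := by
  refine ⟨fun Q _ _ hQ _ h => ?_, fun Q R _ _ _ _ φ => ?_⟩
  · haveI := hQ.center_nontrivial
    obtain ⟨z, hz⟩ := exists_prime_orderOf_dvd_card' (G := ↥(Subgroup.center Q)) p
      ((hQ.to_subgroup _).card_eq_or_dvd.resolve_left fun e => one_lt_card_iff_ne_bot _ |>.2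
        ((Subgroup.nontrivial_iff_ne_bot _).1 this) |>.ne' e)
    have hmem : (z : Q) ∈ zFun p Q := CfsgLib.PGroups.mem_omegaOne z.2 (by
      rw [← hz, ← SubmonoidClass.coe_pow, pow_orderOf_eq_one]; rfl)
    rw [h, mem_bot, OneMemClass.coe_eq_one] at hmem
    rw [hmem, orderOf_one] at hz
    exact (Fact.out : p.Prime).ne_one hz.symm
  · show (omegaOne p (Subgroup.center Q)).map φ.toMonoidHom = omegaOne p (Subgroup.center R)
    rw [CfsgLib.PGroups.omegaOne_map _ φ.injective, map_center' φ.injective,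
      MonoidHom.range_eq_top.2 φ.surjective, top_inf_eq, coe_top, centralizer_univ]

theorem zFun_induced {G : Type u} [Group G] (T : Subgroup G) :
    inducedFunctor (G := G) (zFun p) T = zOne p T := by
  show (omegaOne p (Subgroup.center ↥T)).map T.subtype = _
  rw [CfsgLib.PGroups.omegaOne_map _ T.subtype_injective, map_center' T.subtype_injective, T.range_subtype]

theorem jFun_isCharPFunctor {W : ∀ (Q : Type u) [Group Q], Subgroup Q} (hW : IsCharPFunctor.{u} p W) :
    IsCharPFunctor.{u} p (jFun W) := by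
  refine ⟨fun Q _ _ hQ hn h => ?_, fun Q R _ _ _ hQ φ => ?_⟩
  · haveI := hn
    have hne : jt Q ≠ ⊥ := jt_ne_bot hQ
    refine hW.1 ↥(jt Q) (hQ.to_subgroup _) ((Subgroup.nontrivial_iff_ne_bot _).2 hne) ?_
    exact (map_eq_bot_iff_of_injective _ (jt Q).subtype_injective).1 h
  · show (inducedFunctor (G := Q) W (jt Q)).map φ.toMonoidHom = inducedFunctor (G := R) W (jt R)
    rw [← CfsgLib.Techniques.inducedFunctor_map hW (hQ.to_subgroup _) φ.toMonoidHom φ.injective.injOn,
      map_jt φ]

theorem jFun_induced {G : Type u} [Group G] [Finite G] {W : ∀ (Q : Type u) [Group Q], Subgroup Q}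
    (hW : IsCharPFunctor.{u} p W) {T : Subgroup G} (hT : IsPGroup p T) :
    inducedFunctor (G := G) (jFun W) T = inducedFunctor (G := G) W (jtOf T) := by
  show (inducedFunctor (G := ↥T) W (jt ↥T)).map T.subtype = _
  rw [← CfsgLib.Techniques.inducedFunctor_map hW (hT.to_subgroup _) T.subtype T.subtype_injective.injOn,
    jtOf_eq]

/-- A functor taking a prescribed characteristic value on one group. -/
def transF {J : Type u} [Group J] (K₀ : Subgroup J) : ∀ (Q : Type u) [Group Q], Subgroup Q :=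
  fun Q _ => ⨅ φ : J ≃* Q, K₀.map φ.toMonoidHom

theorem transF_eq {J Q : Type u} [Group J] [Group Q] {K₀ : Subgroup J} (hK : K₀.Characteristic) (φ : J ≃* Q) :
    transF K₀ Q = K₀.map φ.toMonoidHom := by
  refine le_antisymm (iInf_le _ φ) (le_iInf fun ψ => le_of_eq ?_)
  conv_rhs => rw [← characteristic_iff_map_eq.1 hK (φ.trans ψ.symm), Subgroup.map_map]
  congr 1
  ext x
  simp

theorem transF_self {J : Type u} [Group J] {K₀ : Subgroup J} (hK : K₀.Characteristic) :
    transF K₀ J = K₀ := by
  rw [transF_eq hK (MulEquiv.refl J)]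
  exact Subgroup.map_id _

theorem transF_isCharPFunctor {J : Type u} [Group J] {K₀ : Subgroup J} (hK : K₀.Characteristic)
    (hne : K₀ ≠ ⊥) : IsCharPFunctor.{u} p (transF K₀) := by
  refine ⟨fun Q _ _ _ _ h => ?_, fun Q R _ _ _ _ φ => ?_⟩
  · by_cases he : Nonempty (J ≃* Q)
    · obtain ⟨ψ⟩ := he
      rw [transF_eq hK ψ, map_eq_bot_iff_of_injective _ ψ.injective] at h
      exact hne h
    · haveI := not_nonempty_iff.1 he
      rw [transF, iInf_of_empty] at h
      exact top_ne_bot h
  · by_cases he : Nonempty (J ≃* Q)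
    · obtain ⟨ψ⟩ := he
      rw [transF_eq hK ψ, transF_eq hK (ψ.trans φ), Subgroup.map_map]
      rfl
    · haveI := not_nonempty_iff.1 he
      haveI : IsEmpty (J ≃* R) := ⟨fun ψ => he ⟨ψ.trans φ.symm⟩⟩
      rw [transF, transF, iInf_of_empty, iInf_of_empty, Subgroup.map_top_of_surjective _ φ.surjective]

/-- The value of an invariant functor is characteristic. -/
theorem value_char {W : ∀ (Q : Type u) [Group Q], Subgroup Q} (hW : IsCharPFunctor.{u} p W) {Q : Type u}
    [Group Q] [Finite Q] (hQ : IsPGroup p Q) : (W Q).Characteristic :=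
  characteristic_iff_map_eq.2 fun φ => hW.2 Q Q hQ φ

end CfsgLib.Transfer3
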