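import Cfsg.Agent.Lib.LocalEven.Transfer3.Group
import Cfsg.Agent.Lib.LocalEven.EGroupPSL
import Cfsg.Agent.Lib.Techniques.CriticalDegree
import Cfsg.Prelude.Def_LocalEven

/-!
# The contradiction in a minimal failure

The normal closure of `J̃(S)` meets the hypotheses of pushing up; natural chief factors make every
element of `S` quadratic on the chief factors of `G`.
-/

set_option autoImplicit false
set_option linter.all false

namespace CfsgLib.Transfer3

open Subgroup Cfsg CfsgLib.LocalEven CfsgLib.LocalEven.JMeasure Matrix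
open scoped commutatorElement
open CfsgLib.Techniques (inducedSet transferPart)

local notation:max X:max "^ᶜ" g:max => Subgroup.map (MulEquiv.toMonoidHom (MulAut.conj g)) X

universe u

theorem sq_eq_zero_of_nilpotent {F : Type*} [Field F] {m : Matrix (Fin 2) (Fin 2) F}
    (hm : IsNilpotent m) : m * m = 0 := by
  have h1 := (Matrix.isNilpotent_charpoly_sub_pow_of_isNilpotent hm).eq_zero
  have h2 := Matrix.aeval_self_charpoly m
  rw [sub_eq_zero.1 h1] at h2
  simpa [pow_two] using h2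

/-- Powers of a `p`-element of `SL₂` in characteristic `p` act quadratically. -/
theorem unipotent_prod {F : Type*} [Field F] {p : ℕ} [Fact p.Prime] [CharP F p]
    (m : Matrix.SpecialLinearGroup (Fin 2) F) {k : ℕ} (hm : m ^ p ^ k = 1) (i j : ℕ) :
    ((m : Matrix (Fin 2) (Fin 2) F) ^ i - 1) * ((m : Matrix (Fin 2) (Fin 2) F) ^ j - 1) = 0 := by
  obtain ⟨a, ha⟩ : ∃ a, a = (m : Matrix (Fin 2) (Fin 2) F) := ⟨_, rfl⟩
  rw [← ha]
  have hn : IsNilpotent (a - 1) := ⟨p ^ k, by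
    rw [sub_pow_char_pow_of_commute p k (Commute.one_right a), one_pow, ha,
      ← Matrix.SpecialLinearGroup.coe_pow, hm, Matrix.SpecialLinearGroup.coe_one, sub_self]⟩
  rw [← geom_sum_mul a i, ← mul_geom_sum a j, mul_assoc, ← mul_assoc (a - 1),
    sq_eq_zero_of_nilpotent hn, zero_mul, mul_zero]

/-- A Sylow subgroup mapped along an isomorphism keeps characteristic subgroups. -/
theorem characteristic_map_equiv {A B : Type*} [Group A] [Group B] (e : A ≃* B) {T : Subgroup A}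
    (hT : T.Characteristic) : (T.map e.toMonoidHom).Characteristic := by
  refine characteristic_iff_map_eq.2 fun φ => ?_
  have h := characteristic_iff_map_eq.1 hT ((e.trans φ).trans e.symm)
  conv_rhs => rw [← h]
  rw [Subgroup.map_map, Subgroup.map_map]
  congr 1
  ext x
  simp

variable {G : Type u} [Group G] [Finite G] {p : ℕ} [Fact p.Prime]
variable {S : Sylow p G} {𝓦 : Set (∀ (Q : Type u) [Group Q], Subgroup Q)}

/-- The normal closure of `J̃(S)`. -/
def Fail.clo (c : Fail S 𝓦) : Subgroup G := normalClosure (jtOf (S : Subgroup G) : Set G)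

instance Fail.clo_normal (c : Fail S 𝓦) : c.clo.Normal := normalClosure_normal

theorem Fail.jt_le_clo (c : Fail S 𝓦) : jtOf (S : Subgroup G) ≤ c.clo := fun j hj => subset_normalClosure hj

theorem Fail.clo_sup (c : Fail S 𝓦) : c.clo ⊔ pCore p G = ⊤ := by
  obtain ⟨x, hx⟩ : ∃ x, x ∉ c.maxSub := by
    by_contra h
    push Not at h
    exact c.max_ne (eq_top_iff.2 fun g _ => h g)
  refine c.gen hx (sup_le_sup_right c.jt_le_clo _) ?_
  rintro _ ⟨j, hj, rfl⟩
  exact mem_sup_left (c.clo_normal.conj_mem j (c.jt_le_clo hj) x)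

theorem Fail.pCore_clo (c : Fail S 𝓦) : pCore p ↥c.clo = (pCore p G).subgroupOf c.clo :=
  le_antisymm (fun x hx => CfsgLib.Core.map_subtype_pCore_le c.clo (mem_map_of_mem _ hx))
    (CfsgLib.Core.pCore_subgroupOf_le c.clo)

/-- The hypotheses of pushing up hold for the normal closure of `J̃(S)`. -/
theorem Fail.closure_data (c : Fail S 𝓦) : ∃ (F : Type) (_ : Field F) (_ : Fintype F) (n : ℕ)
    (K : Subgroup ↥c.clo) (_ : K.Normal) (P : Sylow p ↥c.clo),
      1 ≤ n ∧ Fintype.card F = p ^ n ∧ c.clo ⊓ (S : Subgroup G) = jtOf (S : Subgroup G) ∧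
      (P : Subgroup ↥c.clo) = (jtOf (S : Subgroup G)).subgroupOf c.clo ∧
      Subgroup.centralizer (pCore p ↥c.clo : Set ↥c.clo) ≤ pCore p ↥c.clo ∧
      (∃! M : Subgroup ↥c.clo, IsCoatom M ∧ (P : Subgroup ↥c.clo) ≤ M) ∧
      Nonempty (↥c.clo ⧸ K ≃* Matrix.ProjectiveSpecialLinearGroup (Fin 2) F) := by
  obtain ⟨F, i1, i2, n, f, hn, hF, hf, hfQ⟩ := c.exists_sl2
  haveI : CharP F p := charP_of_card_eq_prime_pow (f := n) (by rw [Nat.card_eq_fintype_card.symm] at hF; simpa using hF)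
  haveI := CfsgLib.Core.normal_pCore p G
  obtain ⟨g, hg⟩ : ∃ g : G →* Matrix.ProjectiveSpecialLinearGroup (Fin 2) F,
      g = (QuotientGroup.mk' _).comp f := ⟨_, rfl⟩
  have hgs : Function.Surjective g := hg ▸ (QuotientGroup.mk'_surjective _).comp hf
  have st : CfsgLib.LocalEven.EPSL.Setup S g n := ⟨hgs, hF, c.cQ, c.uniq⟩
  have hZ : ¬ (CfsgLib.LocalEven.EPSL.zS S).Normal := fun h => c.zN (by
    haveI := h
    exact CfsgLib.PGroups.omegaOne_normal _)
  have hinf : c.clo ⊓ (S : Subgroup G) = jtOf (S : Subgroup G) := st.closure_inf hZ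
  obtain ⟨h, hh⟩ : ∃ h : ↥c.clo →* Matrix.ProjectiveSpecialLinearGroup (Fin 2) F, h = g.comp c.clo.subtype := ⟨_, rfl⟩
  have hhs : Function.Surjective h := fun y => by
    obtain ⟨x, rfl⟩ := hgs y
    obtain ⟨a, ha, q, hq, rfl⟩ := mem_sup_of_normal_left.1 (c.clo_sup.ge (mem_top x))
    refine ⟨⟨a, ha⟩, ?_⟩
    rw [hh, map_mul, hg]
    simp [MonoidHom.mem_ker.1 (hfQ hq)]
  have hnd : ¬ p ∣ ((jtOf (S : Subgroup G)).subgroupOf c.clo).index := by
    rw [← hinf, inf_subgroupOf_left]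
    exact fun hd => S.not_dvd_index (hd.trans (CfsgLib.HallGen.relIndex_dvd_index_right _ _))
  refine ⟨F, i1, i2, n, h.ker, inferInstance, ((S.2.to_le (jtOf_le _)).comap_subtype).toSylow hnd,
    hn, hF, hinf, rfl, ?_, ?_, ⟨QuotientGroup.quotientKerEquivOfSurjective h hhs⟩⟩
  · rw [c.pCore_clo]
    intro x hx
    obtain ⟨X, hX⟩ : ∃ X, X = c.clo ⊓ centralizer ((c.clo ⊓ pCore p G : Subgroup G) : Set G) := ⟨_, rfl⟩
    haveI : X.Normal := hX ▸ Subgroup.normal_inf_normal _ _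
    have hXp : IsPGroup p X := by
      intro y
      obtain ⟨hy1, hy2⟩ := Subgroup.mem_inf.1 (hX.le y.2)
      obtain ⟨k, hk⟩ := IsPGroup.iff_card.1 (CfsgLib.Core.isPGroup_pCore p G)
      have hcent : (y : G) ^ p ^ k ∈ centralizer (pCore p G : Set G) := by
        rw [mem_centralizer_iff]
        intro q hq
        obtain ⟨d, hd⟩ : ∃ d, d = (y : G) * q * (y : G)⁻¹ * q⁻¹ := ⟨_, rfl⟩
        have hdQ : d ∈ c.clo ⊓ pCore p G := by
          refine hd ▸ Subgroup.mem_inf.2 ⟨?_, mul_mem (Normal.conj_mem ‹_› q hq _) (inv_mem hq)⟩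
          have h1 := mul_mem hy1 (c.clo_normal.conj_mem _ (inv_mem hy1) q)
          simpa [mul_assoc] using h1
        have hdy : (y : G) * d = d * (y : G) := (mem_centralizer_iff.1 hy2 d hdQ).symm
        have hpow : ∀ i : ℕ, (y : G) ^ i * q = d ^ i * q * (y : G) ^ i := by
          intro i
          induction i with
          | zero => simp
          | succ i ih =>
            calc (y : G) ^ (i + 1) * q = (y : G) * ((y : G) ^ i * q) := by rw [pow_succ']; group
              _ = (y : G) * d ^ i * q * (y : G) ^ i := by rw [ih]; group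
              _ = d ^ i * ((y : G) * q * (y : G)⁻¹ * q⁻¹) * q * ((y : G) * (y : G) ^ i) := by
                rw [(show Commute (y : G) d from hdy).pow_right i]; group
              _ = _ := by rw [← hd, ← pow_succ, ← pow_succ']
        have hd1 : d ^ p ^ k = 1 := by
          have h1 : (⟨d, hdQ.2⟩ : ↥(pCore p G)) ^ p ^ k = 1 := hk ▸ pow_card_eq_one'
          exact congrArg Subtype.val h1
        rw [hpow, hd1, one_mul]
      obtain ⟨j, hj⟩ := (CfsgLib.Core.isPGroup_pCore p G) ⟨_, c.cQ hcent⟩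
      refine ⟨k + j, Subtype.ext ?_⟩
      rw [SubmonoidClass.coe_pow, pow_add, pow_mul]
      exact congrArg Subtype.val hj
    refine CfsgLib.Core.le_pCore hXp (hX.ge (Subgroup.mem_inf.2 ⟨x.2, mem_centralizer_iff.2 fun q hq => ?_⟩))
    exact congrArg Subtype.val (mem_centralizer_iff.1 hx ⟨q, hq.1⟩ (show q ∈ pCore p G from hq.2))
  · have hJle : ((jtOf (S : Subgroup G)).subgroupOf c.clo) ≤ c.maxSub.subgroupOf c.clo :=
      fun y hy => c.sylow_le (jtOf_le _ hy)
    have hNM : ¬ c.clo ≤ c.maxSub := fun h => c.max_ne (top_le_iff.1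
      (c.clo_sup.ge.trans (sup_le h (c.core_le.trans c.sylow_le))))
    have hover : ∀ H : Subgroup ↥c.clo, (jtOf (S : Subgroup G)).subgroupOf c.clo ≤ H → H ≠ ⊤ →
        H ≤ c.maxSub.subgroupOf c.clo := by
      intro H hH hHt
      have hne : H.map c.clo.subtype ⊔ pCore p G ≠ ⊤ := by
        intro e
        refine hHt (eq_top_iff.2 fun y _ => ?_)
        obtain ⟨a, ⟨a', ha', rfl⟩, q, hq, e'⟩ := mem_sup_of_normal_right.1 (e.ge (mem_top (y : G)))
        have hqN : q ∈ c.clo := by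
          have : q = (a' : G)⁻¹ * (y : G) := by rw [← e']; simp
          rw [this]; exact mul_mem (inv_mem a'.2) y.2
        have hqJ : (⟨q, hqN⟩ : ↥c.clo) ∈ H := hH (show q ∈ jtOf (S : Subgroup G) from
          hinf ▸ ⟨hqN, c.core_le hq⟩)
        have : y = a' * ⟨q, hqN⟩ := Subtype.ext e'.symm
        exact this ▸ mul_mem ha' hqJ
      intro y hy
      refine c.over_le hne (sup_le_sup_right (fun j hj => ?_) _) (mem_sup_left (mem_map_of_mem _ hy))
      exact ⟨⟨j, c.jt_le_clo hj⟩, hH hj, rfl⟩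
    have hcoat : IsCoatom (c.maxSub.subgroupOf c.clo) := ⟨fun e => hNM (subgroupOf_eq_top.1 e),
      fun H hH => by
        by_contra hne
        exact hH.not_ge (hover H (hJle.trans hH.le) hne)⟩
    exact ⟨_, ⟨hcoat, hJle⟩, fun H hH => ((hH.1.le_iff.1 (hover H hH.2 hH.1.1)).resolve_left hcoat.1).symm⟩

/-- Natural noncentral chief factors contradict failure. -/
theorem Fail.false_of_natural (c : Fail S 𝓦) (F : Type) [Field F] [Fintype F] (n : ℕ)
    (hF : Fintype.card F = p ^ n) (hinf : c.clo ⊓ (S : Subgroup G) = jtOf (S : Subgroup G))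
    (hnat : ∀ (U W : Subgroup ↥c.clo) [W.Normal], U ≤ pCore p ↥c.clo → Cfsg.IsChiefFactor U W →
      ¬ ⁅U, (⊤ : Subgroup ↥c.clo)⁆ ≤ W →
      Cfsg.IsNaturalSL2Module F (U.map (QuotientGroup.mk' W)) (⊤ : Subgroup (↥c.clo ⧸ W))) : False := by
  haveI : CharP F p := charP_of_card_eq_prime_pow (f := n) (by rw [Nat.card_eq_fintype_card.symm] at hF; simpa using hF)
  haveI hQn := CfsgLib.Core.normal_pCore p G
  obtain ⟨u, hu, huQ⟩ := SetLike.not_le_iff_exists.1 c.not_sylow_le_core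
  obtain ⟨U, V, hch, hUQ, hbad⟩ := CfsgLib.Techniques.exists_chiefFactor_not_engel c.func c.ind S c.ne c.fail u hu huQ
  obtain ⟨hVU, hUn, hVn, hmin⟩ := hch
  haveI := hUn
  haveI := hVn
  refine hbad ?_
  suffices key : ⁅⁅U, zpowers u⁆, zpowers u⁆ ≤ V by
    have h2 : 2 ≤ p - 1 := by have := (Fact.out : p.Prime).two_le; have := c.odd; omega
    obtain ⟨m, hm⟩ := Nat.exists_eq_add_of_le h2
    rw [hm]
    clear hm
    induction m with
    | zero => exact key
    | succ m ih =>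
      show ⁅Cfsg.iterCommutator U (zpowers u) (2 + m), zpowers u⁆ ≤ V
      exact (Subgroup.commutator_mono ih le_rfl).trans (Subgroup.commutator_le_left _ _)
  obtain ⟨π, hπ⟩ : ∃ π, π = QuotientGroup.mk' V := ⟨_, rfl⟩
  have hπ1 : ∀ x, π x = 1 ↔ x ∈ V := fun x => hπ ▸ QuotientGroup.eq_one_iff x
  -- `O_p(G)` centralizes the factor
  have hUQ' : ⁅U, pCore p G⁆ ≤ V := by
    rcases hmin (⁅U, pCore p G⁆ ⊔ V) inferInstance le_sup_right
      (sup_le (Subgroup.commutator_le_left _ _) hVU.le) with e | e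
    · exact le_sup_left.trans e.le
    exfalso
    have h1 : U.map π = ⁅U.map π, (pCore p G).map π⁆ := by
      conv_lhs => rw [← e, Subgroup.map_sup, Subgroup.map_commutator,
        show V.map π = ⊥ from (Subgroup.map_eq_bot_iff _).2 fun x hx => MonoidHom.mem_ker.2 ((hπ1 x).2 hx), sup_bot_eq]
    have hne : U.map π ≠ ⊥ := fun e' => hVU.not_ge fun x hx =>
      (hπ1 x).1 (mem_bot.1 (e' ▸ mem_map_of_mem π hx))
    haveI : (U.map π).Normal := ‹U.Normal›.map π (hπ ▸ QuotientGroup.mk'_surjective V)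
    exact (CfsgLib.Techniques.commutator_lt_of_isPGroup ((CfsgLib.Core.isPGroup_pCore p G).map π)
      (map_mono hUQ) hne inferInstance).ne h1.symm
  -- decomposition of `u`
  obtain ⟨a, ha, q, hq, hua⟩ := mem_sup_of_normal_left.1 (c.clo_sup.ge (mem_top u))
  have haJ : a ∈ jtOf (S : Subgroup G) := hinf.le (Subgroup.mem_inf.2 ⟨ha, by
    have : a = u * q⁻¹ := by rw [← hua, mul_inv_cancel_right]
    rw [this]; exact mul_mem hu (inv_mem (c.core_le hq))⟩)
  have hqc : ∀ x ∈ U, π x * π q = π q * π x := fun x hx => by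
    have := (hπ1 _).2 (hUQ' (Subgroup.commutator_mem_commutator hx hq))
    rwa [map_commutatorElement, commutatorElement_eq_one_iff_mul_comm] at this
  have hqc' : ∀ x ∈ U, π u * π x * (π u)⁻¹ = π a * π x * (π a)⁻¹ := fun x hx => by
    rw [← hua, map_mul, show π a * π q * π x * (π a * π q)⁻¹ = π a * (π q * π x * (π q)⁻¹) * (π a)⁻¹ by group,
      ← hqc x hx, mul_inv_cancel_right]
  have hpow : ∀ (i : ℕ), ∀ x ∈ U, π (u ^ i) * π x * (π (u ^ i))⁻¹ = π (a ^ i) * π x * (π (a ^ i))⁻¹ := by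
    intro i
    induction i with
    | zero => intro x _; simp
    | succ i ih =>
      intro x hx
      have h1 := ih (u * x * u⁻¹) (hUn.conj_mem x hx u)
      simp only [map_pow, map_mul, map_inv, pow_succ] at h1 ⊢
      rw [hqc' x hx] at h1
      calc _ = π u ^ i * (π u * π x * (π u)⁻¹) * (π u ^ i)⁻¹ := by group
        _ = _ := by rw [hqc' x hx, h1]; group
  -- the action of `a`
  have hnatural : ∀ (i j : ℕ), ∀ x ∈ U,
      π (⁅⁅x, a ^ i⁆, a ^ j⁆) = 1 := by
    intro i j x hx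
    rw [hπ1]
    rcases hmin (U ⊓ c.clo ⊔ V) inferInstance le_sup_right (sup_le inf_le_left hVU.le) with e | e
    · have h1 : ⁅x, a ^ i⁆ ∈ V := (sup_eq_right.1 e) (Subgroup.mem_inf.2
        ⟨(Subgroup.commutator_le_left U ⊤) (Subgroup.commutator_mem_commutator hx (mem_top _)),
          (Subgroup.commutator_le_right ⊤ c.clo) (Subgroup.commutator_mem_commutator (mem_top _) (pow_mem ha i))⟩)
      exact (Subgroup.commutator_le_left V ⊤) (Subgroup.commutator_mem_commutator h1 (mem_top _))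
    obtain ⟨y, hy, v, hv, hyv⟩ := mem_sup_of_normal_right.1 (e.ge hx)
    suffices hyy : ⁅⁅y, a ^ i⁆, a ^ j⁆ ∈ V by
      rw [← hπ1] at hyy ⊢
      have hxy : π x = π y := by rw [← hyv, map_mul, (hπ1 v).2 hv, mul_one]
      simp only [map_commutatorElement, hxy] at hyy ⊢
      exact hyy
    obtain ⟨U1, hU1⟩ : ∃ U1, U1 = (U ⊓ c.clo).subgroupOf c.clo := ⟨_, rfl⟩
    obtain ⟨V1, hV1⟩ : ∃ V1, V1 = (V ⊓ c.clo).subgroupOf c.clo := ⟨_, rfl⟩
    haveI hU1n : U1.Normal := hU1 ▸ inferInstance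
    haveI hV1n : V1.Normal := hV1 ▸ inferInstance
    have hU1p : U1 ≤ pCore p ↥c.clo := c.pCore_clo ▸ hU1 ▸ fun z hz => hUQ hz.1
    have hlt : V1 < U1 := lt_of_le_of_ne (hV1 ▸ hU1 ▸ fun z hz => ⟨hVU.le hz.1, hz.2⟩) fun e1 => by
      refine hVU.not_ge (e.ge.trans (sup_le (fun z hz => ?_) le_rfl))
      have hz1 : (⟨z, hz.2⟩ : ↥c.clo) ∈ V1 := e1 ▸ hU1 ▸ hz
      exact (hV1 ▸ hz1 : (⟨z, hz.2⟩ : ↥c.clo) ∈ (V ⊓ c.clo).subgroupOf c.clo).1
    have hchief : Cfsg.IsChiefFactor U1 V1 := by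
      refine ⟨hlt, hU1n, hV1n, fun X hX h1 h2 => ?_⟩
      haveI := hX
      obtain ⟨Y, hY⟩ : ∃ Y, Y = X.map c.clo.subtype := ⟨_, rfl⟩
      have hYU : Y ≤ U ⊓ c.clo := by
        rw [hY]
        rintro _ ⟨z, hz, rfl⟩
        exact hU1.le (h2 hz)
      have hVY : V ⊓ c.clo ≤ Y := fun z hz => hY ▸ ⟨⟨z, hz.2⟩, h1 (hV1 ▸ hz), rfl⟩
      have hYn : Y.Normal := by
        refine normalizer_eq_top_iff.1 (top_le_iff.1 (c.clo_sup.ge.trans (sup_le ?_ ?_)))
        · intro l hl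
          rw [mem_normalizer_conj_iff]
          refine Subgroup.eq_of_le_of_card_ge ?_ (card_map_of_injective (MulAut.conj l).injective).ge
          rintro _ ⟨w, hw, rfl⟩
          obtain ⟨z, hz, rfl⟩ := hY.le hw
          exact hY ▸ ⟨⟨l, hl⟩ * z * ⟨l, hl⟩⁻¹, hX.conj_mem z hz _, by simp⟩
        · intro r hr
          rw [mem_normalizer_conj_iff]
          refine Subgroup.eq_of_le_of_card_ge ?_ (card_map_of_injective (MulAut.conj r).injective).ge
          rintro _ ⟨z, hz, rfl⟩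
          obtain ⟨hzU, hzN⟩ := Subgroup.mem_inf.1 (hYU hz)
          have hd : r * z * r⁻¹ * z⁻¹ ∈ V ⊓ c.clo := Subgroup.mem_inf.2 ⟨by
            have h3 := hUQ' (Subgroup.commutator_mem_commutator (inv_mem hzU) hr)
            have h4 := hVn.conj_mem _ h3 z
            simpa [commutatorElement_def, mul_assoc] using h4,
            mul_mem (c.clo_normal.conj_mem z hzN r) (inv_mem hzN)⟩
          show r * z * r⁻¹ ∈ Y
          have := mul_mem (hVY hd) hz
          rwa [inv_mul_cancel_right] at this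
      haveI := hYn
      rcases hmin (Y ⊔ V) inferInstance le_sup_right (sup_le (hYU.trans inf_le_left) hVU.le) with e1 | e1
      · left
        refine le_antisymm (fun z hz => ?_) h1
        have hzY : (z : G) ∈ Y := hY ▸ mem_map_of_mem _ hz
        exact hV1 ▸ ⟨(sup_eq_right.1 e1) hzY, z.2⟩
      · right
        refine le_antisymm h2 fun z hz => ?_
        have hzU : (z : G) ∈ U := ((hU1 ▸ hz : z ∈ (U ⊓ c.clo).subgroupOf c.clo)).1
        obtain ⟨y', hy', v', hv', e2⟩ := mem_sup_of_normal_right.1 (e1.ge hzU)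
        have hvN : v' ∈ c.clo := by
          have : v' = y'⁻¹ * (z : G) := by rw [← e2]; simp
          rw [this]; exact mul_mem (inv_mem (hYU hy').2) z.2
        obtain ⟨z', hz', e3⟩ := (hY ▸ mul_mem hy' (hVY ⟨hv', hvN⟩) : y' * v' ∈ X.map c.clo.subtype)
        have : z' = z := Subtype.ext (e3.trans e2)
        exact this ▸ hz'
    obtain ⟨a', ha'⟩ : ∃ a' : ↥c.clo, a' = ⟨a, ha⟩ := ⟨_, rfl⟩
    obtain ⟨y', hy'⟩ : ∃ y' : ↥c.clo, y' = ⟨y, hy.2⟩ := ⟨_, rfl⟩
    have hy'U : y' ∈ U1 := hU1 ▸ hy' ▸ hy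
    suffices hgoal : ⁅⁅y', a' ^ i⁆, a' ^ j⁆ ∈ V1 by
      have := (hV1 ▸ hgoal : ⁅⁅y', a' ^ i⁆, a' ^ j⁆ ∈ (V ⊓ c.clo).subgroupOf c.clo).1
      rw [hy', ha'] at this
      simpa [commutatorElement_def] using this
    by_cases hcen : ⁅U1, (⊤ : Subgroup ↥c.clo)⁆ ≤ V1
    · exact (Subgroup.commutator_le_left V1 ⊤) (Subgroup.commutator_mem_commutator
        (hcen (Subgroup.commutator_mem_commutator hy'U (mem_top _))) (mem_top _))
    obtain ⟨-, ρ, ψ, -, -, hψ⟩ := hnat U1 V1 hU1p hchief hcen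
    obtain ⟨ν, hν⟩ : ∃ ν, ν = QuotientGroup.mk' V1 := ⟨_, rfl⟩
    subst hν
    obtain ⟨r, hr⟩ := (S.2.to_le (jtOf_le _)) ⟨a, haJ⟩
    obtain ⟨l, hl⟩ : ∃ l : ↥(⊤ : Subgroup (↥c.clo ⧸ V1)), l = ⟨QuotientGroup.mk' V1 a', mem_top _⟩ := ⟨_, rfl⟩
    have hm : (ρ l) ^ p ^ r = 1 := by
      rw [← map_pow, show l ^ p ^ r = 1 from Subtype.ext (by
        rw [SubmonoidClass.coe_pow, hl]
        show QuotientGroup.mk' V1 a' ^ p ^ r = 1
        rw [← map_pow, show a' ^ p ^ r = 1 from Subtype.ext (by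
          rw [SubmonoidClass.coe_pow, ha']; exact congrArg Subtype.val hr), map_one]), map_one]
    -- commutators with powers
    have hcomm : ∀ (t : ℕ) (w : ↥(U1.map (QuotientGroup.mk' V1))),
        ∃ w' : ↥(U1.map (QuotientGroup.mk' V1)),
          (w' : ↥c.clo ⧸ V1) = ⁅(w : ↥c.clo ⧸ V1), QuotientGroup.mk' V1 (a' ^ t)⁆ ∧
          ψ (Additive.ofMul w') = - ((((ρ l : Matrix.SpecialLinearGroup (Fin 2) F) : Matrix (Fin 2) (Fin 2) F) ^ t - 1).mulVec
            (ψ (Additive.ofMul w))) := by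
      intro t w
      obtain ⟨w₁, hw₁, hψ₁⟩ := hψ (l ^ t) w
      refine ⟨w * w₁⁻¹, ?_, ?_⟩
      · rw [Subgroup.coe_mul, Subgroup.coe_inv, hw₁, SubmonoidClass.coe_pow, hl, map_pow]
        simp [commutatorElement_def, mul_assoc]
      · rw [ofMul_mul, ofMul_inv, map_add, map_neg, hψ₁, map_pow, Matrix.SpecialLinearGroup.coe_pow,
          Matrix.sub_mulVec, Matrix.one_mulVec]
        abel
    obtain ⟨w₁, hw₁, hψ₁⟩ := hcomm i ⟨_, mem_map_of_mem _ hy'U⟩
    obtain ⟨w₂, hw₂, hψ₂⟩ := hcomm j w₁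
    have h0 : w₂ = 1 := by
      refine Additive.ofMul.injective (ψ.injective ?_)
      rw [hψ₂, hψ₁, Matrix.mulVec_neg, neg_neg, Matrix.mulVec_mulVec, unipotent_prod _ hm,
        Matrix.zero_mulVec, ofMul_one, map_zero]
    refine (QuotientGroup.eq_one_iff _).1 ?_
    show QuotientGroup.mk' V1 ⁅⁅y', a' ^ i⁆, a' ^ j⁆ = 1
    rw [map_commutatorElement, map_commutatorElement, ← hw₁, ← hw₂, h0, OneMemClass.coe_one]
  -- conclusion
  refine Subgroup.commutator_le.2 fun d hd z hz => ?_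
  obtain ⟨j, rfl⟩ : ∃ j : ℕ, u ^ j = z := mem_powers_iff_mem_zpowers.2 hz
  have hD : ⁅U, zpowers u⁆ ≤ U ⊓ (centralizer {π (u ^ j)}).comap π := by
    refine Subgroup.commutator_le.2 fun x hx z' hz' => ?_
    obtain ⟨i, rfl⟩ : ∃ i : ℕ, u ^ i = z' := mem_powers_iff_mem_zpowers.2 hz'
    have hxi : ⁅x, u ^ i⁆ ∈ U := (Subgroup.commutator_le_left U ⊤)
      (Subgroup.commutator_mem_commutator hx (mem_top _))
    refine Subgroup.mem_inf.2 ⟨hxi, mem_comap.2 (mem_centralizer_singleton_iff.2 ?_)⟩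
    have he : π ⁅x, u ^ i⁆ = π ⁅x, a ^ i⁆ := by
      simp only [commutatorElement_def, map_mul, map_inv]
      have := hpow i x⁻¹ (inv_mem hx)
      rw [map_inv] at this
      calc π x * π (u ^ i) * (π x)⁻¹ * (π (u ^ i))⁻¹ = π x * (π (u ^ i) * (π x)⁻¹ * (π (u ^ i))⁻¹) := by group
        _ = π x * (π (a ^ i) * (π x)⁻¹ * (π (a ^ i))⁻¹) := by rw [this]
        _ = _ := by group
    have h2 : π ⁅⁅x, u ^ i⁆, u ^ j⁆ = 1 := by
      have h1 := hnatural i j x hx
      have h3 := hpow j (⁅x, u ^ i⁆⁻¹) (inv_mem hxi)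
      rw [map_commutatorElement, commutatorElement_def] at h1 ⊢
      rw [map_inv] at h3
      rw [show π ⁅x, u ^ i⁆ * π (u ^ j) * (π ⁅x, u ^ i⁆)⁻¹ * (π (u ^ j))⁻¹ =
        π ⁅x, u ^ i⁆ * (π (u ^ j) * (π ⁅x, u ^ i⁆)⁻¹ * (π (u ^ j))⁻¹) by group, h3, he, ← h1]
      group
    rw [map_commutatorElement, commutatorElement_eq_one_iff_mul_comm] at h2
    exact h2
  refine (hπ1 _).1 ?_
  rw [map_commutatorElement, commutatorElement_eq_one_iff_mul_comm]
  exact mem_centralizer_singleton_iff.1 (hD hd).2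

end CfsgLib.Transfer3
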