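import Cfsg.Agent.Lib.LocalEven.Transfer3.Unique
import Cfsg.Agent.Lib.LocalEven.ThompsonMeasure
import Cfsg.Agent.Lib.Techniques.Engel
import Cfsg.Agent.Lib.PGroups.Omega

/-!
# A minimal failure of control of transfer by functors of `Z(S)` and `J̃(S)`

`jtOf T = C_T(Z(J(T)))`. In a minimal failure the quotient by `C(⟨Ω₁Z(S)^G⟩)` is `SL₂(q)`.
-/

set_option autoImplicit false
set_option linter.all false

namespace CfsgLib.Transfer3

open Subgroup Cfsg CfsgLib.LocalEven CfsgLib.LocalEven.OffSL2 CfsgLib.LocalEven.JMeasure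
open scoped commutatorElement
open CfsgLib.Techniques (IsSylowSub isSylowSub_sylow inducedSet transferPart)
open CfsgLib.PLocal (IsMaxIn isMaxIn_map goodPred_abelian exists_maxIn)

local notation:max X:max "^ᶜ" g:max => Subgroup.map (MulEquiv.toMonoidHom (MulAut.conj g)) X

universe u

section Basic

variable {G : Type*} [Group G]

/-- `J̃(T) = C_T(Z(J(T)))` -/
def jtOf (T : Subgroup G) : Subgroup G := T ⊓ centralizer (centerThompsonAOf T : Set G)

theorem jtOf_le (T : Subgroup G) : jtOf T ≤ T := inf_le_left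

theorem thompson_le_jtOf (T : Subgroup G) : thompsonSubgroupAOf T ≤ jtOf T := by
  refine le_inf (thompson_le T) fun x hx => ?_
  rw [mem_centralizer_iff]
  exact fun z hz => (mem_centralizer_iff.1 hz.2 x hx).symm

variable [Finite G]

theorem thompson_of_between {S T : Subgroup G} (hTS : T ≤ S) (h : jtOf S ≤ T) :
    thompsonSubgroupAOf T = thompsonSubgroupAOf S :=
  CfsgLib.Techniques.thompsonAOf_eq_of_le hTS fun A hA =>
    (le_thompson hA).trans ((thompson_le_jtOf S).trans h)

theorem jtOf_of_between {S T : Subgroup G} (hTS : T ≤ S) (h : jtOf S ≤ T) : jtOf T = jtOf S := by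
  have e : centerThompsonAOf T = centerThompsonAOf S := by
    rw [centerThompsonAOf, centerThompsonAOf, thompson_of_between hTS h]
  rw [jtOf, e]
  exact le_antisymm (inf_le_inf_right _ hTS) (le_inf h inf_le_right)

theorem abOrd_conj (S : Subgroup G) (g : G) : abOrd (S^ᶜg) = abOrd S := by
  obtain ⟨A, hA⟩ := exists_maxAb S
  have h := isMaxIn_map (goodPred_abelian (G := G) 1) (MulAut.conj g) hA
  rw [← card_eq_abOrd h, ← card_eq_abOrd hA, card_map_of_injective (MulAut.conj g).injective]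

theorem mem_normalizer_thompson {S : Subgroup G} {g : G}
    (h : (thompsonSubgroupAOf S)^ᶜg ≤ S) : g ∈ normalizer (thompsonSubgroupAOf S : Set G) := by
  rw [mem_normalizer_conj_iff]
  refine Subgroup.eq_of_le_of_card_ge ?_ (card_map_of_injective (MulAut.conj g).injective).ge
  rw [thompson_map_conj] at h ⊢
  exact thompson_mono_of_eq h (abOrd_conj S g).ge

end Basic

variable {G : Type u} [Group G] [Finite G] {p : ℕ} [Fact p.Prime]

/-- `Z₀ = Ω₁(Z(S))` -/
abbrev zOne (p : ℕ) (S : Subgroup G) : Subgroup G := omegaOne p (S ⊓ centralizer (S : Set G))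

/-- A minimal failure. -/
structure Fail (S : Sylow p G) (𝓦 : Set (∀ (Q : Type u) [Group Q], Subgroup Q)) : Prop where
  odd : p ≠ 2
  func : ∀ W ∈ 𝓦, IsCharPFunctor.{u} p W
  ne : 𝓦.Nonempty
  cQ : centralizer (pCore p G : Set G) ≤ pCore p G
  ind : ∀ L : Subgroup G, L ≠ ⊤ → FamilyControlsTransferIn p (inducedSet 𝓦 G) L
  fail : ¬ pCore p G ⊓ ⁅(⊤ : Subgroup G), ⊤⁆ ≤ transferPart (inducedSet 𝓦 G) (S : Subgroup G)
  mem_ne : ∀ W ∈ 𝓦, ¬ (inducedFunctor (G := G) W (S : Subgroup G)).Normal
  zN : ¬ (zOne p (S : Subgroup G)).Normal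
  hJ : ¬ thompsonSubgroupAOf (S : Subgroup G) ≤ pCore p G
  cases : ∀ W ∈ 𝓦, ∀ T : Subgroup G, jtOf (S : Subgroup G) ⊔ pCore p G ≤ T → T ≤ (S : Subgroup G) →
    inducedFunctor (G := G) W T = inducedFunctor (G := G) W (S : Subgroup G) ∨
      (T ≤ centralizer (inducedFunctor (G := G) W T : Set G) ∧ ∃ Y : Subgroup G,
        Y ≤ inducedFunctor (G := G) W T ∧ (S : Subgroup G) ≤ centralizer (Y : Set G) ∧ ¬ Y.Normal)

variable {S : Sylow p G} {𝓦 : Set (∀ (Q : Type u) [Group Q], Subgroup Q)}

/-- The maximal subgroup. -/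
noncomputable def Fail.maxSub (c : Fail S 𝓦) : Subgroup G :=
  normalizer ((transferPart (inducedSet 𝓦 G) (S : Subgroup G) ⊓ pCore p G : Subgroup G) : Set G)

theorem Fail.core_le (c : Fail S 𝓦) : pCore p G ≤ (S : Subgroup G) := CfsgLib.Core.pCore_le_sylow S

theorem Fail.max_ne (c : Fail S 𝓦) : c.maxSub ≠ ⊤ :=
  CfsgLib.Techniques.normalizer_transferPart_ne_top c.func c.ind S c.ne c.fail

theorem Fail.le_max (c : Fail S 𝓦) {H : Subgroup G} (hH : H ≠ ⊤) (hSH : (S : Subgroup G) ≤ H) :
    H ≤ c.maxSub := CfsgLib.Techniques.le_normalizer_transferPart c.func c.ind S hH hSH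

theorem Fail.sylow_le (c : Fail S 𝓦) : (S : Subgroup G) ≤ c.maxSub :=
  c.le_max (CfsgLib.Techniques.sylow_ne_top c.func S c.ne c.fail) le_rfl

theorem Fail.coatom (c : Fail S 𝓦) : IsCoatom c.maxSub :=
  ⟨c.max_ne, fun H hH => by
    by_contra hne
    exact hH.not_ge (c.le_max hne (c.sylow_le.trans hH.le))⟩

theorem Fail.uniq (c : Fail S 𝓦) : ∃! M : Subgroup G, IsCoatom M ∧ (S : Subgroup G) ≤ M :=
  ⟨c.maxSub, ⟨c.coatom, c.sylow_le⟩, fun N hN => by
    exact (hN.1.le_iff.1 (c.le_max hN.1.1 hN.2)).resolve_left c.max_ne |>.symm⟩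

theorem Fail.normal_cases (c : Fail S 𝓦) (N : Subgroup G) [N.Normal] (hN : N ≤ c.maxSub) :
    (S : Subgroup G) ⊓ N ≤ pCore p G := by
  obtain ⟨hfr, hSn⟩ := CfsgLib.LocalEven.EPSL.frattini_inf (S := S) N
  by_cases h : normalizer (((S : Subgroup G) ⊓ N : Subgroup G) : Set G) = ⊤
  · haveI := normalizer_eq_top_iff.1 h
    exact CfsgLib.Core.le_pCore (S.2.to_le inf_le_left)
  · exact absurd (top_le_iff.1 (hfr.ge.trans (sup_le (c.le_max h hSn) hN))) c.max_ne

theorem Fail.not_sylow_le_core (c : Fail S 𝓦) : ¬ (S : Subgroup G) ≤ pCore p G := fun h =>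
  c.hJ ((thompson_le _).trans h)

theorem Fail.normalizer_thompson (c : Fail S 𝓦) :
    normalizer (thompsonSubgroupAOf (S : Subgroup G) : Set G) ≤ c.maxSub := by
  refine c.le_max (fun h => c.hJ ?_) (le_trans le_normalizer (normalizer_le _))
  haveI := normalizer_eq_top_iff.1 h
  exact CfsgLib.Core.le_pCore (S.2.to_le (thompson_le _))

theorem Fail.mem_max_of_thompson (c : Fail S 𝓦) {g : G}
    (h : (thompsonSubgroupAOf (S : Subgroup G))^ᶜg ≤ (S : Subgroup G)) : g ∈ c.maxSub :=
  c.normalizer_thompson (mem_normalizer_thompson h)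

theorem Fail.cent_le (c : Fail S 𝓦) {Y : Subgroup G}
    (hSY : (S : Subgroup G) ≤ centralizer (Y : Set G)) (hY : ¬ Y.Normal) :
    centralizer (Y : Set G) ≤ c.maxSub := by
  refine c.le_max (fun h => hY ⟨fun y hy g => ?_⟩) hSY
  have := mem_centralizer_iff.1 (h.ge (mem_top g)) y hy
  rw [← this, mul_inv_cancel_right]
  exact hy

/-- A proper subgroup over `J̃(S) O_p(G)` with Sylow subgroup in `S` lies in `M`. -/
theorem Fail.le_max_aux (c : Fail S 𝓦) : ∀ (n : ℕ) (L T : Subgroup G), Nat.card L ≤ n → L ≠ ⊤ →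
    jtOf (S : Subgroup G) ⊔ pCore p G ≤ T → T ≤ (S : Subgroup G) → IsSylowSub p T L → L ≤ c.maxSub := by
  intro n
  induction n with
  | zero => intro L _ hL; exact absurd hL (not_le.2 Nat.card_pos)
  | succ n ih =>
    intro L T hcard hL hJT hTS hT
    have hJ : jtOf (S : Subgroup G) ≤ T := le_sup_left.trans hJT
    have hQT : pCore p G ≤ T := le_sup_right.trans hJT
    by_contra hbad
    have hsmall : ∀ L' : Subgroup G, L' < L → jtOf (S : Subgroup G) ⊔ pCore p G ≤ L' → L' ≤ c.maxSub := by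
      intro L' hlt hle
      obtain ⟨T', hT'1, hT'2⟩ := CfsgLib.Techniques.exists_isSylowSub (p := p) hle
        (S.2.to_le (sup_le (jtOf_le _) c.core_le))
      obtain ⟨g, hg⟩ := CfsgLib.Techniques.exists_conj_le_sylow S hT'2.2.1
      have hgJ : g ∈ c.maxSub := c.mem_max_of_thompson
        ((map_mono ((thompson_le_jtOf _).trans (le_sup_left.trans hT'1))).trans hg)
      have hJg : (jtOf (S : Subgroup G))^ᶜg = jtOf (S : Subgroup G) := by
        refine Subgroup.eq_of_le_of_card_ge ?_ (card_map_of_injective (MulAut.conj g).injective).ge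
        refine le_inf ((map_mono (le_sup_left.trans hT'1)).trans hg) ?_
        have hn : g ∈ normalizer (thompsonSubgroupAOf (S : Subgroup G) : Set G) :=
          mem_normalizer_thompson ((map_mono ((thompson_le_jtOf _).trans (le_sup_left.trans hT'1))).trans hg)
        have hz : g ∈ normalizer (centerThompsonAOf (S : Subgroup G) : Set G) :=
          CfsgLib.Transfer.normalizer_le_normalizer_inf
            ⟨hn, CfsgLib.Transfer.normalizer_le_normalizer_centralizer _ hn⟩
        have hc := CfsgLib.Transfer.normalizer_le_normalizer_centralizer _ hz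
        rw [← mem_normalizer_conj_iff.1 hc]
        exact map_mono inf_le_right
      haveI := CfsgLib.Core.normal_pCore p G
      have hQg : (pCore p G)^ᶜg = pCore p G :=
        mem_normalizer_conj_iff.1 ((normalizer_eq_top (pCore p G)).symm ▸ mem_top g)
      have hlt' : Nat.card ↥(L'^ᶜg) < Nat.card L := by
        rw [card_map_of_injective (MulAut.conj g).injective]
        exact CfsgLib.Transfer.card_lt_of_lt hlt
      have h := ih (L'^ᶜg) (T'^ᶜg) (by omega)
        (fun e => by
          rw [e, Subgroup.card_top] at hlt'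
          exact absurd hlt' (not_lt.2 (Subgroup.card_le_card_group L)))
        (by
          have := map_mono (f := (MulAut.conj g).toMonoidHom) hT'1
          rwa [Subgroup.map_sup, hJg, hQg] at this)
        hg (hT'2.map_conj g)
      intro l hl
      have := h (mem_map_of_mem _ hl)
      simpa [mul_assoc] using mul_mem (mul_mem (inv_mem hgJ) this) hgJ
    -- the members
    have hmem : ∀ W ∈ 𝓦, L ⊓ normalizer (inducedFunctor (G := G) W T : Set G) ≤ c.maxSub := by
      intro W hW
      have hc := CfsgLib.Techniques.inducedFunctor_isConjugacyFunctor (c.func W hW) G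
      rcases c.cases W hW T hJT hTS with e | ⟨hTC, Y, hY, hSY, hYn⟩
      · rw [e]
        exact inf_le_right.trans (c.le_max (fun h => c.mem_ne W hW (normalizer_eq_top_iff.1 h))
          (CfsgLib.Techniques.le_normalizer_functor hc S.2))
      have hTN : T ≤ L ⊓ normalizer (inducedFunctor (G := G) W T : Set G) :=
        le_inf hT.1 (CfsgLib.Techniques.le_normalizer_functor hc hT.2.1)
      rcases (inf_le_left : L ⊓ normalizer (inducedFunctor (G := G) W T : Set G) ≤ L).lt_or_eq with h | h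
      · exact hsmall _ h (hJT.trans hTN)
      intro l hl
      rw [h] at hl
      have hLn : L ≤ normalizer (inducedFunctor (G := G) W T : Set G) := h ▸ inf_le_right
      obtain ⟨K, hK⟩ : ∃ K, K = L ⊓ centralizer (inducedFunctor (G := G) W T : Set G) := ⟨_, rfl⟩
      have hTK : IsSylowSub p T K := hT.of_le (hK ▸ le_inf hT.1 hTC) (hK ▸ inf_le_left)
      obtain ⟨k, hk, n, hn, hnT, rfl⟩ := CfsgLib.Techniques.exists_mul_normalizer hTK hl
        (fun y hy => hK ▸ CfsgLib.Transfer.normalizer_le_normalizer_inf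
          ⟨le_normalizer hy, CfsgLib.Transfer.normalizer_le_normalizer_centralizer _ (hLn hy)⟩)
        (hK ▸ inf_le_left)
      refine mul_mem ((Subgroup.centralizer_le hY).trans (c.cent_le hSY hYn) (hK ▸ hk).2) ?_
      refine c.normalizer_thompson ?_
      have := normalizer_le T hnT
      rwa [thompson_of_between hTS hJ] at this
    have hTQ : ⁅pCore p G, L⁆ ≤ transferPart (inducedSet 𝓦 G) (S : Subgroup G) ⊓ pCore p G := by
      haveI := CfsgLib.Core.normal_pCore p G
      refine le_inf ?_ (Subgroup.commutator_le_left _ _)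
      refine le_trans (le_inf ((Subgroup.commutator_le_left _ _).trans hQT)
        (Subgroup.commutator_mono (hQT.trans hT.1) le_rfl)) ?_
      rw [CfsgLib.Techniques.familyControlsTransfer_at (CfsgLib.Techniques.inducedSet_conjugacy c.func G)
        (c.ind L hL) hT]
      refine iSup₂_le ?_
      rintro _ ⟨W, hW, rfl⟩
      refine le_trans (inf_le_inf hTS (Subgroup.commutator_mono (hmem W hW) (hmem W hW))) ?_
      exact CfsgLib.Techniques.inf_commutator_le_transferPart c.func S (c.ind _ c.max_ne) c.sylow_le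
    refine hbad fun l hl => ?_
    refine CfsgLib.Techniques.mem_normalizer_of_map_conj_eq (Subgroup.eq_of_le_of_card_ge ?_
      (card_map_of_injective (MulAut.conj l).injective).ge)
    rintro _ ⟨t, ht, rfl⟩
    have hc := hTQ (Subgroup.commutator_mem_commutator (inv_mem (Subgroup.mem_inf.1 ht).2) hl)
    have e : (MulAut.conj l).toMonoidHom t = t * ⁅t⁻¹, l⁆ := by simp [commutatorElement_def, mul_assoc]
    rw [e]
    exact mul_mem ht hc

theorem Fail.over_le (c : Fail S 𝓦) {L : Subgroup G} (hL : L ≠ ⊤)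
    (hle : jtOf (S : Subgroup G) ⊔ pCore p G ≤ L) : L ≤ c.maxSub := by
  obtain ⟨T, hT1, hT2⟩ := CfsgLib.Techniques.exists_isSylowSub (p := p) hle
    (S.2.to_le (sup_le (jtOf_le _) c.core_le))
  obtain ⟨g, hg⟩ := CfsgLib.Techniques.exists_conj_le_sylow S hT2.2.1
  have hgJ' : g ∈ normalizer (thompsonSubgroupAOf (S : Subgroup G) : Set G) :=
    mem_normalizer_thompson ((map_mono ((thompson_le_jtOf _).trans (le_sup_left.trans hT1))).trans hg)
  have hgM := c.normalizer_thompson hgJ'
  have hz : g ∈ normalizer (centerThompsonAOf (S : Subgroup G) : Set G) :=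
    CfsgLib.Transfer.normalizer_le_normalizer_inf
      ⟨hgJ', CfsgLib.Transfer.normalizer_le_normalizer_centralizer _ hgJ'⟩
  have hJg : (jtOf (S : Subgroup G))^ᶜg = jtOf (S : Subgroup G) := by
    refine Subgroup.eq_of_le_of_card_ge ?_ (card_map_of_injective (MulAut.conj g).injective).ge
    refine le_inf ((map_mono (le_sup_left.trans hT1)).trans hg) ?_
    rw [← mem_normalizer_conj_iff.1 (CfsgLib.Transfer.normalizer_le_normalizer_centralizer _ hz)]
    exact map_mono inf_le_right
  haveI := CfsgLib.Core.normal_pCore p G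
  have hQg : (pCore p G)^ᶜg = pCore p G :=
    mem_normalizer_conj_iff.1 ((normalizer_eq_top (pCore p G)).symm ▸ mem_top g)
  have h := c.le_max_aux _ (L^ᶜg) (T^ᶜg) le_rfl (fun e => hL (map_injective (MulAut.conj g).injective
    (e.trans (Subgroup.map_top_of_surjective _ (MulAut.conj g).surjective).symm))) (by
      have := map_mono (f := (MulAut.conj g).toMonoidHom) hT1
      rwa [Subgroup.map_sup, hJg, hQg] at this) hg (hT2.map_conj g)
  intro l hl
  have := h (mem_map_of_mem _ hl)
  simpa [mul_assoc] using mul_mem (mul_mem (inv_mem hgM) this) hgM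

/-- Two conjugates of `J̃(S)` generate `G` with `O_p(G)`. -/
theorem Fail.gen (c : Fail S 𝓦) {x : G} (hx : x ∉ c.maxSub) {L : Subgroup G}
    (h1 : jtOf (S : Subgroup G) ⊔ pCore p G ≤ L) (h2 : (jtOf (S : Subgroup G))^ᶜx ≤ L) : L = ⊤ := by
  by_contra hne
  have hM := h2.trans (c.over_le hne h1)
  obtain ⟨m, hmM, hm⟩ := ((isSylowSub_sylow S).of_le c.sylow_le le_top).exists_conj_le hM
    ((S.2.to_le (jtOf_le _)).map _)
  rw [CfsgLib.LocalEven.conj_conj] at hm
  have := c.mem_max_of_thompson ((map_mono (thompson_le_jtOf _)).trans hm)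
  refine hx ?_
  simpa using mul_mem (inv_mem hmM) this

theorem Fail.zOne_le (c : Fail S 𝓦) :
    normalClosure (zOne p (S : Subgroup G) : Set G) ≤ omegaOne p (pCore p G ⊓ centralizer (pCore p G : Set G)) := by
  haveI := CfsgLib.Core.normal_pCore p G
  haveI : (pCore p G ⊓ centralizer (pCore p G : Set G)).Normal := Subgroup.normal_inf_normal _ _
  refine normalClosure_le_normal (SetLike.coe_subset_coe.2 ?_)
  refine CfsgLib.PGroups.omegaOne_mono fun z hz => ?_
  have hzc : z ∈ centralizer (pCore p G : Set G) := centralizer_le (SetLike.coe_subset_coe.2 c.core_le) hz.2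
  exact ⟨c.cQ hzc, hzc⟩

/-- In a minimal failure the quotient by the centralizer of `⟨Ω₁Z(S)^G⟩` is `SL₂(q)`. -/
theorem Fail.exists_sl2 (c : Fail S 𝓦) : ∃ (F : Type) (_ : Field F) (_ : Fintype F) (n : ℕ)
    (f : G →* Matrix.SpecialLinearGroup (Fin 2) F), 1 ≤ n ∧ Fintype.card F = p ^ n ∧
      Function.Surjective f ∧ pCore p G ≤ f.ker := by
  obtain ⟨U, hU⟩ : ∃ U, U = normalClosure (zOne p (S : Subgroup G) : Set G) := ⟨_, rfl⟩
  haveI hUn : U.Normal := hU ▸ normalClosure_normal
  haveI := CfsgLib.Core.normal_pCore p G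
  have hZU : zOne p (S : Subgroup G) ≤ U := hU ▸ fun z hz => subset_normalClosure hz
  haveI : IsMulCommutative ↥(pCore p G ⊓ centralizer (pCore p G : Set G)) :=
    isMulCommutative_iff.2 fun a b => Subtype.ext (mem_centralizer_iff.1 b.2.2 a a.2.1)
  have hUmem : ∀ u ∈ U, u ∈ pCore p G ⊓ centralizer (pCore p G : Set G) ∧ u ^ p = 1 := fun u hu =>
    CfsgLib.PGroups.mem_omegaOne_iff_of_comm.1 (c.zOne_le (hU ▸ hu))
  have hUQ : U ≤ pCore p G := fun u hu => (hUmem u hu).1.1
  have hUab : ∀ a ∈ U, ∀ b ∈ U, a * b = b * a := fun a ha b hb =>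
    mem_centralizer_iff.1 (hUmem b hb).1.2 a (hUQ ha)
  obtain ⟨C, hC⟩ : ∃ C, C = centralizer (U : Set G) := ⟨_, rfl⟩
  haveI hCn : C.Normal := hC ▸ inferInstance
  have hQC : pCore p G ≤ C := hC ▸ fun q hq => mem_centralizer_iff.2 fun u hu =>
    (mem_centralizer_iff.1 (hUmem u hu).1.2 q hq).symm
  have hSZ : (S : Subgroup G) ≤ centralizer (zOne p (S : Subgroup G) : Set G) := fun s hs =>
    mem_centralizer_iff.2 fun z hz => (mem_centralizer_iff.1
      (CfsgLib.PGroups.omegaOne_le _ hz).2 s hs).symm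
  have hCM : C ≤ c.maxSub := hC ▸ (centralizer_le (SetLike.coe_subset_coe.2 hZU)).trans (c.cent_le hSZ c.zN)
  have hSC : (S : Subgroup G) ⊓ C = pCore p G := le_antisymm (c.normal_cases C hCM) (le_inf c.core_le hQC)
  obtain ⟨π, hπ⟩ : ∃ π : G →* G ⧸ C, π = QuotientGroup.mk' C := ⟨_, rfl⟩
  have hπs : Function.Surjective π := hπ ▸ QuotientGroup.mk'_surjective C
  have hπk : π.ker = C := hπ ▸ QuotientGroup.ker_mk' C
  have hback : ∀ X : Subgroup (G ⧸ C), X ≠ ⊤ → X.comap π ≠ ⊤ := fun X hX e => hX (by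
    rw [← map_comap_eq_self_of_surjective hπs X, e, Subgroup.map_top_of_surjective π hπs])
  obtain ⟨S', hS'⟩ : ∃ S' : Sylow p (G ⧸ C), (S' : Subgroup (G ⧸ C)) = (S : Subgroup G).map π :=
    ⟨S.mapSurjective hπs, S.coe_mapSurjective hπs⟩
  obtain ⟨M', hM'⟩ : ∃ M', M' = c.maxSub.map π := ⟨_, rfl⟩
  have hM'c : M'.comap π = c.maxSub := by rw [hM', comap_map_eq, hπk, sup_eq_left.2 hCM]
  have hM'ne : M' ≠ ⊤ := fun e => c.max_ne (by rw [← hM'c, e, comap_top])
  have hSover : ∀ X : Subgroup (G ⧸ C), (S' : Subgroup (G ⧸ C)) ≤ X → X ≠ ⊤ → X ≤ M' := by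
    intro X hX hXt
    rw [hM', ← map_comap_eq_self_of_surjective hπs X]
    exact map_mono (c.le_max (hback X hXt) (le_trans (le_comap_map π _) (comap_mono (hS' ▸ hX))))
  have hSM' : (S' : Subgroup (G ⧸ C)) ≤ M' := hS' ▸ hM' ▸ map_mono c.sylow_le
  have hcoat : IsCoatom M' := ⟨hM'ne, fun X hX => by
    by_contra hne
    exact hX.not_ge (hSover X (hSM'.trans hX.le) hne)⟩
  have hmin : IsMinimalOver (S' : Subgroup (G ⧸ C)) := by
    refine ⟨?_, M', ⟨hcoat, hSM'⟩, fun N hN => ((hN.1.le_iff.1 (hSover N hN.2 hN.1.1)).resolve_left hM'ne).symm⟩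
    by_contra hne
    obtain ⟨L, hL⟩ : ∃ L, L = (normalClosure ((S' : Subgroup (G ⧸ C)) : Set (G ⧸ C))).comap π := ⟨_, rfl⟩
    haveI : L.Normal := hL ▸ inferInstance
    have hLS : (S : Subgroup G) ≤ L := fun s hs => hL ▸ subset_normalClosure (hS' ▸ mem_map_of_mem π hs)
    have := c.normal_cases L (c.le_max (hL ▸ hback _ hne) hLS)
    rw [inf_eq_left.2 hLS] at this
    exact c.not_sylow_le_core this
  have hcore : pCore p (G ⧸ C) = ⊥ := by
    obtain ⟨D, hD⟩ : ∃ D, D = (pCore p (G ⧸ C)).comap π := ⟨_, rfl⟩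
    haveI : D.Normal := hD ▸ (CfsgLib.Core.normal_pCore p (G ⧸ C)).comap π
    have hDS : D ≤ C ⊔ (S : Subgroup G) := by
      have hCS : ((S : Subgroup G).map π).comap π = (S : Subgroup G) ⊔ C := by rw [comap_map_eq, hπk]
      rw [hD, sup_comm, ← hCS]
      exact comap_mono (hS' ▸ CfsgLib.Core.pCore_le_sylow S')
    have hDC : D ≤ C := by
      intro d hd
      obtain ⟨k, hk, s, hs, rfl⟩ := mem_sup_of_normal_left.1 (hDS hd)
      have hkD : k ∈ D := hD ▸ show π k ∈ pCore p (G ⧸ C) by
        rw [MonoidHom.mem_ker.1 (hπk.ge hk)]; exact one_mem _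
      have hsD : s ∈ D := by simpa using mul_mem (inv_mem hkD) hd
      exact mul_mem hk (hQC (c.normal_cases D (hDS.trans (sup_le hCM c.sylow_le)) ⟨hs, hsD⟩))
    rw [← map_comap_eq_self_of_surjective hπs (pCore p (G ⧸ C)), ← hD, Subgroup.map_eq_bot_iff, hπk]
    exact hDC
  -- the action
  letI : CommGroup U := { (inferInstance : Group U) with
    mul_comm := fun a b => Subtype.ext (hUab a a.2 b b.2) }
  haveI : Finite (Additive U) := inferInstanceAs (Finite U)
  let actG : G →* AddMonoid.End (Additive U) :=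
    { toFun := fun g =>
        { toFun := fun v => Additive.ofMul (MulAut.conjNormal g (Additive.toMul v))
          map_zero' := by simp
          map_add' := fun a b => by simp }
      map_one' := AddMonoidHom.ext fun v => by
        show Additive.ofMul (MulAut.conjNormal (1 : G) (Additive.toMul v)) = v
        rw [map_one]; rfl
      map_mul' := fun g k => AddMonoidHom.ext fun v => by
        show Additive.ofMul (MulAut.conjNormal (g * k) (Additive.toMul v)) = _
        rw [map_mul]; rfl }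
  have hker : actG.ker = C := by
    ext g
    rw [hC, MonoidHom.mem_ker, mem_centralizer_iff]
    constructor
    · intro e u hu
      have h1 : MulAut.conjNormal g (⟨u, hu⟩ : U) = ⟨u, hu⟩ :=
        congrArg Additive.toMul (show actG g (Additive.ofMul ⟨u, hu⟩) = (1 : AddMonoid.End (Additive U)) (Additive.ofMul ⟨u, hu⟩) by rw [e])
      have h2 : g * u * g⁻¹ = u := congrArg Subtype.val h1
      exact (mul_inv_eq_iff_eq_mul.1 h2).symm
    · intro h
      refine AddMonoidHom.ext fun v => congrArg Additive.ofMul (Subtype.ext ?_)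
      show g * ((Additive.toMul v : U) : G) * g⁻¹ = ((Additive.toMul v : U) : G)
      rw [← h _ (Additive.toMul v).2, mul_inv_cancel_right]
  obtain ⟨act, hact⟩ : ∃ act : G ⧸ C →* AddMonoid.End (Additive U), act = QuotientGroup.lift C actG hker.ge := ⟨_, rfl⟩
  have hactv : ∀ g (v : Additive U), ((Additive.toMul (act (π g) v) : U) : G) = g * ((Additive.toMul v : U) : G) * g⁻¹ :=
    fun g v => by subst hact hπ; rfl
  have hfix : ∀ (X : Subgroup G) (v : Additive U), v ∈ fix act (X.map π) ↔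
      ((Additive.toMul v : U) : G) ∈ centralizer (X : Set G) := by
    intro X v
    rw [mem_centralizer_iff]
    constructor
    · intro h x hx
      have h1 := hactv x v
      rw [h (π x) (mem_map_of_mem π hx)] at h1
      exact (mul_inv_eq_iff_eq_mul.1 h1.symm)
    · rintro h _ ⟨x, hx, rfl⟩
      refine Additive.toMul.injective (Subtype.ext ?_)
      rw [hactv, h x hx, mul_inv_cancel_right]
  have hpV : ∀ v : Additive U, p • v = 0 := fun v => Additive.toMul.injective (Subtype.ext (by
    rw [toMul_nsmul, SubmonoidClass.coe_pow, toMul_zero, OneMemClass.coe_one]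
    exact (hUmem _ (Additive.toMul v).2).2))
  have hmoved : ∃ v ∈ fix act (S' : Subgroup (G ⧸ C)), v ∉ fix act ⊤ := by
    have : ¬ zOne p (S : Subgroup G) ≤ centralizer ((⊤ : Subgroup G) : Set G) := fun h => c.zN
      (CfsgLib.LocalEven.EPSL.normal_of_central fun z hz g => mem_centralizer_iff.1 (h hz) g (mem_top g))
    obtain ⟨z, hz, hz'⟩ := SetLike.not_le_iff_exists.1 this
    refine ⟨Additive.ofMul ⟨z, hZU hz⟩, hS' ▸ (hfix _ _).2 (mem_centralizer_iff.2 fun s hs =>
      (mem_centralizer_iff.1 (hSZ hs) z hz).symm), fun h => hz' ?_⟩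
    rw [← Subgroup.map_top_of_surjective π hπs] at h
    exact (hfix _ _).1 h
  have amb : Amb act S' M' := ⟨c.odd, hpV, by
    rw [← MonoidHom.ker_eq_bot_iff, hact, QuotientGroup.ker_lift, hker, Subgroup.map_eq_bot_iff,
      QuotientGroup.ker_mk'], hcore, hmin, ⟨hcoat, hSM'⟩, hmoved⟩
  have hS'ne : (S' : Subgroup (G ⧸ C)) ≠ ⊥ := fun e => c.not_sylow_le_core (by
    rw [hS', Subgroup.map_eq_bot_iff, hπk] at e
    exact hSC ▸ le_inf le_rfl e)
  have hspan : ∀ W : AddSubgroup (Additive U), (∀ g v, v ∈ W → act g v ∈ W) →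
      fix act (S' : Subgroup (G ⧸ C)) ≤ W → W = ⊤ := by
    intro W hWs hSW
    obtain ⟨X, hX⟩ : ∃ X : Subgroup G, X =
        (AddSubgroup.toSubgroup' W).map U.subtype := ⟨_, rfl⟩
    have hXm : ∀ u, u ∈ X → ∀ hu : u ∈ U, Additive.ofMul (⟨u, hu⟩ : U) ∈ W := by
      rintro u hu hu'
      obtain ⟨w, hw, rfl⟩ := hX ▸ hu
      exact hw
    haveI : X.Normal := ⟨fun x hx g => by
      obtain ⟨w, hw, rfl⟩ := hX ▸ hx
      refine hX ▸ ⟨MulAut.conjNormal g w, ?_, rfl⟩
      show Additive.ofMul (MulAut.conjNormal g w) ∈ W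
      have := hWs (π g) _ (show Additive.ofMul w ∈ W from hw)
      subst hact hπ
      exact this⟩
    have hUX : U ≤ X := by
      rw [hU]
      refine normalClosure_le_normal fun z hz => hX ▸ ⟨⟨z, hZU hz⟩, ?_, rfl⟩
      refine hSW (hS' ▸ (hfix _ _).2 (mem_centralizer_iff.2 fun s hs =>
        (mem_centralizer_iff.1 (hSZ hs) z hz).symm))
    exact eq_top_iff.2 fun v _ => hXm _ (hUX (Additive.toMul v).2) _
  obtain ⟨R, hR⟩ : ∃ R, R = (jtOf (S : Subgroup G)).map π := ⟨_, rfl⟩
  obtain ⟨ℰ, hℰ⟩ : ∃ ℰ : Set (Subgroup (G ⧸ C)),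
      ℰ = {E | ∃ A, MaxAb (S : Subgroup G) A ∧ E = A.map π} := ⟨_, rfl⟩
  have cfg : Config act S' M' R ℰ := by
    refine ⟨amb, amb.dual hspan hS'ne, hR ▸ hS' ▸ map_mono (jtOf_le _), ?_, ?_, ?_, ?_, ?_, ?_, ?_⟩
    · rintro E hE
      obtain ⟨A, hA, rfl⟩ := hℰ ▸ hE
      exact hR ▸ map_mono ((le_thompson hA).trans (thompson_le_jtOf _))
    · rintro E hE _ ha _ hb
      obtain ⟨A, hA, rfl⟩ := hℰ ▸ hE
      obtain ⟨a, ha, rfl⟩ := ha
      obtain ⟨b, hb, rfl⟩ := hb
      rw [← map_mul, ← map_mul, CfsgLib.PLocal.comm_of_mem hA.2.1 ha hb]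
    · rintro E hE
      obtain ⟨A, hA, rfl⟩ := hℰ ▸ hE
      have hfixA : Nat.card (fix act (A.map π)) = Nat.card ↥(U ⊓ A) := Nat.card_congr
        { toFun := fun v => ⟨(Additive.toMul (v : Additive U) : U), (Additive.toMul (v : Additive U)).2, by
            refine mem_of_commutes hA (c.core_le (hUQ (Additive.toMul (v : Additive U)).2)) fun a ha =>
              mem_centralizer_iff.1 ((hfix A _).1 v.2) a ha⟩
          invFun := fun u => ⟨Additive.ofMul ⟨u, u.2.1⟩, (hfix A _).2 (mem_centralizer_iff.2 fun a ha =>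
            CfsgLib.PLocal.comm_of_mem hA.2.1 ha u.2.2)⟩
          left_inv := fun v => rfl
          right_inv := fun u => rfl }
      obtain ⟨X, hX⟩ : ∃ X, X = (A ⊓ C) ⊔ U := ⟨_, rfl⟩
      have hXab : IsMulCommutative X := hX ▸ CfsgLib.Techniques.abelian_sup
        (CfsgLib.Techniques.abelian_mono hA.2.1 inf_le_left)
        (isMulCommutative_iff.2 fun a b => Subtype.ext (hUab a a.2 b b.2))
        (inf_le_right.trans hC.le)
      have hXS : X ≤ (S : Subgroup G) := hX ▸ sup_le (inf_le_left.trans hA.1) (hUQ.trans c.core_le)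
      have h1 : Nat.card X ≤ Nat.card A := hA.2.2 X hXS hXab
      have h2 := CfsgLib.Core.card_sup_mul_card_inf (A ⊓ C) U le_normalizer_of_normal
      rw [← hX, show (A ⊓ C) ⊓ U = U ⊓ A from le_antisymm (le_inf inf_le_right (inf_le_left.trans inf_le_left))
        (le_inf (le_inf inf_le_right (inf_le_left.trans (hUQ.trans hQC))) inf_le_left)] at h2
      have h3 : Nat.card (A.map π) * Nat.card ↥(A ⊓ C) = Nat.card A := by
        rw [Subgroup.card_eq_card_quotient_mul_card_subgroup (π.comp A.subtype).ker,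
          Nat.card_congr (QuotientGroup.quotientKerEquivRange _).toEquiv, MonoidHom.range_comp,
          A.range_subtype, ← card_map_of_injective A.subtype_injective (K := (π.comp A.subtype).ker)]
        congr 2
        rw [← MonoidHom.comap_ker, map_comap_eq, A.range_subtype, hπk]
      show Nat.card (Additive U) ≤ _
      rw [mu, hfixA]
      refine Nat.le_of_mul_le_mul_right ?_ (Nat.card_pos (α := ↥(A ⊓ C)))
      calc Nat.card (Additive U) * Nat.card ↥(A ⊓ C) = Nat.card X * Nat.card ↥(U ⊓ A) := by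
            rw [h2, mul_comm]; rfl
        _ ≤ Nat.card A * Nat.card ↥(U ⊓ A) := Nat.mul_le_mul_right _ h1
        _ = _ := by rw [← h3]; ring
    · by_contra h
      push Not at h
      refine c.hJ (thompson_le_iff.2 fun A hA => hSC ▸ le_inf hA.1 ?_)
      have := h (A.map π) (hℰ ▸ ⟨A, hA, rfl⟩)
      rwa [Subgroup.map_eq_bot_iff, hπk] at this
    · intro v hv
      rw [hR, hfix, mem_centralizer_iff]
      intro x hx
      have hvS : ∀ A, MaxAb (S : Subgroup G) A →
          ((Additive.toMul v : U) : G) ∈ centralizer (A : Set G) := fun A hA =>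
        (hfix A v).1 (hv _ (hℰ ▸ ⟨A, hA, rfl⟩))
      have hvz : ((Additive.toMul v : U) : G) ∈ centerThompsonAOf (S : Subgroup G) := by
        refine ⟨?_, ?_⟩
        · obtain ⟨A, hA⟩ := exists_maxAb (S : Subgroup G)
          exact le_thompson hA (mem_of_commutes hA (c.core_le (hUQ (Additive.toMul v).2))
            fun a ha => mem_centralizer_iff.1 (hvS A hA) a ha)
        · have hle : thompsonSubgroupAOf (S : Subgroup G) ≤ centralizer ({((Additive.toMul v : U) : G)} : Set G) :=
            thompson_le_iff.2 fun A hA a ha => mem_centralizer_singleton_iff.2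
              (mem_centralizer_iff.1 (hvS A hA) a ha)
          exact mem_centralizer_iff.2 fun j hj => mem_centralizer_singleton_iff.1 (hle hj)
      exact (mem_centralizer_iff.1 hx.2 _ hvz).symm
    · intro H hRH hH
      rw [hM', ← map_comap_eq_self_of_surjective hπs H]
      refine map_mono (c.over_le (hback H hH) (sup_le ?_ ?_))
      · exact (le_comap_map π _).trans (comap_mono (hR ▸ hRH))
      · exact hQC.trans (hπk.ge.trans (comap_mono (bot_le : ⊥ ≤ H)))
    · intro x hx
      obtain ⟨y, rfl⟩ := hπs x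
      have hy : y ∉ c.maxSub := fun h => hx (hM' ▸ mem_map_of_mem π h)
      rw [← map_comap_eq_self_of_surjective hπs (R ⊔ R^ᶜ(π y)),
        c.gen hy (L := (R ⊔ R^ᶜ(π y)).comap π) (sup_le ?_ ?_) ?_, Subgroup.map_top_of_surjective π hπs]
      · exact (le_comap_map π _).trans (comap_mono (hR ▸ le_sup_left))
      · exact hQC.trans (hπk.ge.trans (comap_mono (bot_le : ⊥ ≤ (R ⊔ R^ᶜ(π y)))))
      · rintro _ ⟨j, hj, rfl⟩
        refine mem_comap.2 (mem_sup_right ⟨π j, hR ▸ mem_map_of_mem π hj, ?_⟩)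
        simp
  obtain ⟨F, i1, i2, n, hn, hcard, ⟨e⟩⟩ := cfg.sl2
  refine ⟨F, i1, i2, n, e.toMonoidHom.comp π, hn, hcard, e.surjective.comp hπs, fun q hq => ?_⟩
  rw [MonoidHom.mem_ker, MonoidHom.comp_apply, MonoidHom.mem_ker.1 (hπk.ge (hQC hq)), map_one]

end CfsgLib.Transfer3
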